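import Cfsg.Agent.J4M24.Main
import Cfsg.Agent.J4Rep112.Hom

/-!
The subgroup on the first two generators of the presented fourth Janko group is `M24`.
-/

set_option autoImplicit false

namespace CfsgLib.J4M24

open Cfsg CfsgLib.CosetEnum

/-- the letters of `Bool`, as generators -/
def genB : Bool → Spor.J4.Gen := fun b => bif b then .y else .x

theorem relSet_le : ∀ r ∈ relSet, FreeGroup.lift (fun b =>
    (PresentedGroup.of (genB b) : Spor.J4)) r = 1 := by
  rintro _ ⟨w, hw, rfl⟩
  rw [map_gword_lets, FreeGroup.lift_apply_of, FreeGroup.lift_apply_of]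
  have key : gword (lets Spor.J4.x Spor.J4.y) w ∈ Spor.J4.extra := by
    have h : (Tab.relWords.all fun w =>
        Spor.J4.extra.any fun r => r.toWord == (gword (lets Spor.J4.x Spor.J4.y) w).toWord) = true := by
      decide +kernel
    obtain ⟨r, hr, he⟩ := List.any_eq_true.1 (List.all_eq_true.1 h w hw)
    rwa [FreeGroup.toWord_injective (eq_of_beq he)] at hr
  have h1 : PresentedGroup.mk (Spor.coxRelators Spor.J4.edges ∪ {r | r ∈ Spor.J4.extra})
      (gword (lets Spor.J4.x Spor.J4.y) w) = 1 :=
    PresentedGroup.one_of_mem (Or.inr key)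
  rw [map_gword_lets] at h1
  exact h1

/-- the map of the seven-relator group into `J4` -/
def incl : P →* Spor.J4 := PresentedGroup.toGroup relSet_le

theorem incl_range : incl.range =
    (Subgroup.closure ({Spor.J4.x, Spor.J4.y} : Set (FreeGroup Spor.J4.Gen))).map
      (PresentedGroup.mk (Spor.coxRelators Spor.J4.edges ∪ {r | r ∈ Spor.J4.extra})) := by
  rw [MonoidHom.range_eq_map, ← PresentedGroup.closure_range_of, MonoidHom.map_closure,
    MonoidHom.map_closure]
  congr 1
  rw [← Set.range_comp, Set.image_pair]
  ext a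
  constructor
  · rintro ⟨b, rfl⟩
    cases b
    · exact Or.inl (PresentedGroup.toGroup.of _)
    · exact Or.inr (PresentedGroup.toGroup.of _)
  · rintro (rfl | rfl)
    · exact ⟨false, PresentedGroup.toGroup.of _⟩
    · exact ⟨true, PresentedGroup.toGroup.of _⟩

theorem incl_injective : Function.Injective incl := by
  haveI : IsSimpleGroup ↥M24 := Mathieu.isSimpleGroup_M24
  haveI : Nontrivial P := equivM24.toEquiv.nontrivial
  haveI : IsSimpleGroup P := IsSimpleGroup.isSimpleGroup_of_surjective equivM24.symm.toMonoidHom
    equivM24.symm.surjective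
  rw [← MonoidHom.ker_eq_bot_iff]
  refine (Subgroup.Normal.eq_bot_or_eq_top (inferInstance : incl.ker.Normal)).resolve_right ?_
  intro h
  apply J4Rep112.rep_x_ne_one
  have hx : incl px = 1 := by
    have : px ∈ incl.ker := h ▸ Subgroup.mem_top _
    exact this
  rw [px, incl, PresentedGroup.toGroup.of] at hx
  exact (congrArg J4Rep112.rep hx).trans (map_one _)

end CfsgLib.J4M24
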