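import Cfsg.Agent.J4M24.Order
import Cfsg.Agent.Mathieu.Multiplier
import Cfsg.Agent.Mathieu.M24
import Cfsg.Agent.Mathieu.Simple

/-!
The seven relations present the Mathieu group on 24 points.
-/

set_option autoImplicit false
set_option maxRecDepth 100000

namespace CfsgLib.J4M24

open Cfsg CfsgLib.CosetEnum CfsgLib.Mathieu CfsgLib.Golay

/-- a table as a permutation, given its inverse -/
def tabPerm (t ti : List ℕ)
    (h : ((List.range 24).all fun i => (app t i).blt 24 && (app ti i).blt 24 &&
      Nat.beq (app ti (app t i)) i && Nat.beq (app t (app ti i)) i) = true) :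
    Equiv.Perm GolayPt where
  toFun p := i2p (app t (p2i p))
  invFun p := i2p (app ti (p2i p))
  left_inv p := by
    show i2p (app ti (p2i (i2p (app t (p2i p))))) = p
    have h' := List.all_eq_true.1 h (p2i p) (List.mem_range.2 (p2i_lt p))
    simp only [Bool.and_eq_true, Nat.blt, Nat.ble_eq] at h'
    rw [p2i_i2p _ h'.1.1.1, Nat.eq_of_beq_eq_true h'.1.2, i2p_p2i]
  right_inv p := by
    show i2p (app t (p2i (i2p (app ti (p2i p))))) = p
    have h' := List.all_eq_true.1 h (p2i p) (List.mem_range.2 (p2i_lt p))
    simp only [Bool.and_eq_true, Nat.blt, Nat.ble_eq] at h'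
    rw [p2i_i2p _ h'.1.1.2, Nat.eq_of_beq_eq_true h'.2, i2p_p2i]

/-- image of the first generator -/
def xM : Equiv.Perm GolayPt := tabPerm Tab.xTab Tab.xTab (by decide +kernel)

/-- image of the second generator -/
def yM : Equiv.Perm GolayPt := tabPerm Tab.yTab Tab.yiTab (by decide +kernel)

theorem xM_mem : xM ∈ M24 := mem_M24_iff.mpr (by decide +kernel)

theorem yM_mem : yM ∈ M24 := mem_M24_iff.mpr (by decide +kernel)

/-- values of the letters in the permutation group -/
def ml : ℕ → Equiv.Perm GolayPt := lets xM yM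

/-- tables of the letters -/
def mt (c : ℕ) : List ℕ :=
  [Tab.xTab, Tab.xTab, Tab.yTab, Tab.yiTab].getD c idTab

theorem toTab_ml : ∀ c, c < 4 → toTab (ml c) = mt c := by decide +kernel

/-- table of a word -/
def wTab (w : List ℕ) : List ℕ := w.foldr (fun c t => compTab (mt c) t) idTab

theorem toTab_gword : ∀ w : List ℕ, (∀ c ∈ w, c < 4) → toTab (gword ml w) = wTab w
  | [], _ => toTab_one
  | c :: w, h => by
    rw [gword_cons, toTab_mul, toTab_ml c (h c List.mem_cons_self),
      toTab_gword w fun d hd => h d (List.mem_cons_of_mem _ hd)]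
    rfl

theorem toTab_injective : Function.Injective toTab := fun g h e => Equiv.ext fun p => by
  apply p2i_injective
  rw [← app_toTab', ← app_toTab', e]

theorem words_ok : (Tab.relWords.all (fun w => w.all (fun c => c.blt 4) && wTab w == idTab) &&
    [Tab.shiftWord, Tab.projInvWord, Tab.twistWord].all (fun w => w.all fun c => c.blt 4) &&
    wTab Tab.shiftWord == shiftTab && wTab Tab.projInvWord == projInvTab &&
    wTab Tab.twistWord == twistTab) = true := by decide +kernel

/-- the generators of the presented group in `M24` -/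
def gens : Bool → ↥M24 := fun b => bif b then ⟨yM, yM_mem⟩ else ⟨xM, xM_mem⟩

theorem rel_ok : ∀ r ∈ relSet, FreeGroup.lift gens r = 1 := by
  rintro _ ⟨w, hw, rfl⟩
  have h := words_ok
  simp only [Bool.and_eq_true, List.all_eq_true, Nat.blt, Nat.ble_eq, beq_iff_eq] at h
  apply Subtype.ext
  show M24.subtype (FreeGroup.lift gens _) = 1
  rw [map_gword_lets, map_gword_lets, FreeGroup.lift_apply_of, FreeGroup.lift_apply_of]
  refine toTab_injective ?_
  rw [toTab_one]
  exact (toTab_gword w (h.1.1.1.1 w hw).1).trans (h.1.1.1.1 w hw).2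

/-- the map onto `M24` -/
def phi : P →* ↥M24 := PresentedGroup.toGroup rel_ok

theorem phi_gword (w : List ℕ) : (phi (gword gl w) : Equiv.Perm GolayPt) = gword ml w := by
  show M24.subtype (phi (gword (lets px py) w)) = _
  rw [map_gword_lets, map_gword_lets, phi, px, py, PresentedGroup.toGroup.of,
    PresentedGroup.toGroup.of]
  rfl

theorem phi_surjective : Function.Surjective phi := by
  have h := words_ok
  simp only [Bool.and_eq_true, List.all_eq_true, List.mem_cons, List.not_mem_nil, or_false,
    forall_eq_or_imp, forall_eq, Nat.blt, Nat.ble_eq, beq_iff_eq] at h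
  obtain ⟨⟨⟨⟨-, hlet⟩, hs⟩, hp⟩, ht⟩ := h
  have hmem : ∀ (w : List ℕ) (g : Equiv.Perm GolayPt), (∀ c ∈ w, c < 4) →
      toTab g = wTab w → g ∈ (M24.subtype.comp phi).range := by
    intro w g hw hg
    refine ⟨gword gl w, ?_⟩
    refine (phi_gword w).trans (toTab_injective ?_)
    rw [toTab_gword w hw, hg]
  have hle : gen24 ≤ (M24.subtype.comp phi).range := by
    rw [gen24, Subgroup.closure_le]
    rintro g (rfl | rfl | rfl)
    · exact hmem _ _ hlet.1 (toTab_shift.trans hs.symm)
    · exact hmem _ _ hlet.2.1 (toTab_projInv.trans hp.symm)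
    · exact hmem _ _ hlet.2.2 (toTab_twist.trans ht.symm)
  intro g
  obtain ⟨a, ha⟩ := hle (show (g : Equiv.Perm GolayPt) ∈ gen24 by rw [M24_eq_gen24]; exact g.2)
  exact ⟨a, Subtype.ext ha⟩

theorem hom_comm_eq_one {A : Type*} [CommGroup A] (f : P →* A) : f = 1 := by
  have e : ∀ {w : List ℕ}, w ∈ Tab.relWords → gword (lets (f px) (f py)) w = 1 := fun hw => by
    rw [← map_gword_lets, ← map_one f]
    exact congrArg f (gword_rel hw)
  have h1 : f px * f px = 1 := by
    have := e (w := [0, 0]) (by decide)
    simpa [gword, lets, signedVal] using this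
  have h2 : f py * f py * f py = 1 := by
    have := e (w := [2, 2, 2]) (by decide)
    simpa [gword, lets, signedVal, mul_assoc] using this
  have h23 : (f px * f py) ^ 23 = 1 := by
    have := e (w := (List.replicate 23 [0, 2]).flatten) (by decide)
    simpa [gword, lets, signedVal, pow_succ, mul_assoc] using this
  have hy2 : f px * (f py * f py) = 1 := by
    have e1 : (f px * f py) ^ 23 = (f px * f px) ^ 11 * (f py * f py * f py) ^ 7 *
        (f px * (f py * f py)) := by
      rw [mul_pow, ← pow_two, ← pow_two, ← pow_succ, ← pow_mul, ← pow_mul, mul_mul_mul_comm,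
        ← pow_succ, ← pow_add]
    rwa [e1, h1, h2, one_pow, one_pow, one_mul, one_mul] at h23
  have hab : f px = f py := by
    calc f px = f px * (f py * f py * f py) := by rw [h2, mul_one]
      _ = f px * (f py * f py) * f py := by simp only [mul_assoc]
      _ = f py := by rw [hy2, one_mul]
  have hb : f py = 1 := by
    rw [hab] at h1
    rwa [h1, one_mul] at h2
  refine PresentedGroup.ext fun b => ?_
  cases b
  · exact hab.trans hb
  · exact hb

theorem phi_injective : Function.Injective phi := by
  obtain ⟨hle, hne⟩ := card_le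
  haveI : Finite P := Nat.finite_of_card_ne_zero hne
  have hcard : Nat.card phi.ker * 244823040 = Nat.card P := by
    rw [← card_M24, ← Nat.card_congr (Equiv.ofBijective _ (QuotientGroup.kerLift_injective phi
      |> fun h => ⟨h, fun g => ?_⟩))]
    · exact (Subgroup.card_eq_card_quotient_mul_card_subgroup phi.ker).trans (mul_comm _ _) |>.symm
    · obtain ⟨a, rfl⟩ := phi_surjective g
      exact ⟨(a : P ⧸ phi.ker), rfl⟩
  have hN : Nat.card phi.ker ≤ 3 := by omega
  haveI : IsCyclic phi.ker := by
    have hpos : 0 < Nat.card phi.ker := Nat.card_pos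
    by_cases h1 : Nat.card phi.ker = 1
    · haveI := (Nat.card_eq_one_iff_unique.1 h1).1
      exact isCyclic_of_subsingleton
    · have hp : (Nat.card phi.ker).Prime := by
        interval_cases Nat.card phi.ker <;> first | omega | norm_num
      haveI := Fact.mk hp
      exact isCyclic_of_prime_card rfl
  have hcomm : ∀ e₁ e₂ : MulAut phi.ker, e₁ * e₂ = e₂ * e₁ := by
    intro e₁ e₂
    apply (IsCyclic.mulAutMulEquiv phi.ker).injective
    rw [map_mul, map_mul, mul_comm]
  letI : CommGroup (MulAut phi.ker) := { (inferInstance : Group (MulAut phi.ker)) with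
    mul_comm := hcomm }
  have hact := hom_comm_eq_one (MulAut.conjNormal (H := phi.ker))
  have hcen : phi.ker ≤ Subgroup.center P := by
    intro n hn
    rw [Subgroup.mem_center_iff]
    intro g
    have := congrArg Subtype.val (DFunLike.congr_fun (DFunLike.congr_fun hact g) ⟨n, hn⟩)
    rw [MulAut.conjNormal_apply] at this
    simpa [mul_inv_eq_iff_eq_mul] using this
  have htop : commutator P = ⊤ := by
    rw [← Abelianization.ker_of, hom_comm_eq_one (Abelianization.of (G := P))]
    exact MonoidHom.ker_one
  obtain ⟨π, hπ⟩ := Multiplier.m24_trivial.2 P phi ⟨phi_surjective, hcen, htop ▸ le_top⟩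
  rw [← MonoidHom.ker_eq_bot_iff, Subgroup.eq_bot_iff_forall]
  intro n hn
  obtain ⟨a, ha⟩ := hπ ⟨n, hn⟩
  rw [Subsingleton.elim a 1, map_one] at ha
  exact (congrArg Subtype.val ha).symm

/-- The seven relations present `M24`. -/
noncomputable def equivM24 : P ≃* ↥M24 :=
  MulEquiv.ofBijective phi ⟨phi_injective, phi_surjective⟩

end CfsgLib.J4M24
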