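import Cfsg.Agent.J4M24.Rewrite

/-! Generated data: the point table, transversal and letter elimination. -/

set_option autoImplicit false
set_option maxRecDepth 100000

namespace CfsgLib.J4M24.Tab

/-- the seven relators of the presentation, as letter words -/
def relWords : List (List ℕ) := [[0, 0],
  [2, 2, 2],
  [0, 2, 0, 2, 0, 2, 0, 2, 0, 2, 0, 2, 0, 2, 0, 2, 0, 2, 0, 2, 0, 2, 0, 2, 0, 2, 0, 2, 0, 2, 0, 2, 0, 2, 0, 2, 0, 2, 0, 2, 0, 2, 0, 2, 0, 2],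
  [1, 3, 0, 2, 1, 3, 0, 2, 1, 3, 0, 2, 1, 3, 0, 2, 1, 3, 0, 2, 1, 3, 0, 2, 1, 3, 0, 2, 1, 3, 0, 2, 1, 3, 0, 2, 1, 3, 0, 2, 1, 3, 0, 2, 1, 3, 0, 2],
  [1, 3, 1, 3, 0, 2, 0, 2, 1, 3, 1, 3, 0, 2, 0, 2, 1, 3, 1, 3, 0, 2, 0, 2, 1, 3, 1, 3, 0, 2, 0, 2, 1, 3, 1, 3, 0, 2, 0, 2],
  [0, 2, 0, 2, 0, 3, 0, 2, 0, 3, 0, 2, 0, 3, 0, 2, 0, 2, 0, 3, 0, 2, 0, 3, 0, 2, 0, 3, 0, 2, 0, 2, 0, 3, 0, 2, 0, 3, 0, 2, 0, 3, 0, 2, 0, 2, 0, 3, 0, 2, 0, 3, 0, 2, 0, 3],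
  [0, 2, 0, 2, 0, 3, 0, 2, 0, 2, 0, 3, 0, 2, 0, 2, 0, 3, 0, 2, 0, 3, 0, 3, 0, 2, 0, 3, 0, 3, 0, 2, 0, 3, 0, 3]]

/-- table of the action on 24 points -/
def T (i : ℕ) : ℕ := [1, 1, 2, 1, 0, 0, 0, 2, 3, 3, 1, 0, 2, 2, 4, 6, 5, 5, 6, 3, 4, 4, 5, 5, 7, 7, 3, 4, 6, 6, 8, 10, 9, 9, 10, 7, 8, 8, 11, 14, 12, 12, 7, 8, 13, 13, 14, 9, 10, 10, 15, 18, 11, 11, 13, 13, 16, 16, 9, 11, 17, 17, 18, 12, 14, 14, 16, 16, 15, 15, 17, 17, 19, 19, 12, 15, 18, 18, 20, 22, 21, 21, 22, 19, 20, 20, 21, 21, 23, 23, 19, 20, 22, 22, 23, 23].getD i 0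

/-- transversal -/
def rep (i : ℕ) : List ℕ := ([[], [0], [2], [2, 0], [2, 0, 2], [2, 0, 2, 0], [2, 0, 2, 2], [2, 0, 2, 2, 0], [2, 0, 2, 2, 0, 2], [2, 0, 2, 2, 0, 2, 0], [2, 0, 2, 2, 0, 2, 2], [2, 0, 2, 2, 0, 2, 0, 2], [2, 0, 2, 2, 0, 2, 2, 0], [2, 0, 2, 2, 0, 2, 0, 2, 0], [2, 0, 2, 2, 0, 2, 0, 2, 2], [2, 0, 2, 2, 0, 2, 2, 0, 2], [2, 0, 2, 2, 0, 2, 0, 2, 2, 0], [2, 0, 2, 2, 0, 2, 2, 0, 2, 0], [2, 0, 2, 2, 0, 2, 2, 0, 2, 2], [2, 0, 2, 2, 0, 2, 2, 0, 2, 2, 0], [2, 0, 2, 2, 0, 2, 2, 0, 2, 2, 0, 2], [2, 0, 2, 2, 0, 2, 2, 0, 2, 2, 0, 2, 0], [2, 0, 2, 2, 0, 2, 2, 0, 2, 2, 0, 2, 2], [2, 0, 2, 2, 0, 2, 2, 0, 2, 2, 0, 2, 2, 0]] : List (List ℕ)).getD i []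

/-- values of the Schreier letters in the seven letters -/
def sigma : List (List ℕ) := [[], [], [], [0], [], [1], [], [], [], [], [], [2], [], [], [], [], [], [], [], [], [], [], [], [], [], [], [], [4], [], [], [], [], [], [6], [], [8], [], [], [], [], [], [], [], [10], [], [], [], [12]]

/-- letters with trivial defining word -/
def tree : List ℕ := [0, 1, 4, 7, 8, 9, 12, 15, 16, 17, 19, 20, 22, 23, 25, 28, 30, 31, 36, 39, 40, 41, 44]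

/-- the seven chosen letters -/
def fin : List ℕ := [3, 11, 27, 33, 35, 43, 47]

/-- elimination steps: the solved letter and the relator used -/
def steps : List (ℕ × ℕ) := [(2, 0), (6, 14), (13, 22), (10, 28), (14, 42), (21, 50), (18, 56), (29, 64), (24, 70), (26, 77), (37, 85), (32, 98), (34, 105), (38, 126), (45, 134), (42, 140), (46, 154), (5, 1)]

/-- the relators on seven letters -/
def F : List (List ℕ) := [[2, 2, 2], [4, 4, 4], [6, 6, 6], [8, 8, 8], [10, 10, 10], [12, 12, 12], [10, 2, 9, 3], [2, 8, 0, 0, 7], [10, 8, 13, 6, 2], [6, 1, 1, 3, 11], [12, 8, 12, 8, 5], [2, 1, 5, 7, 4, 0], [4, 9, 11, 13, 10, 8], [4, 7, 10, 6, 5, 7], [10, 13, 4, 12, 11, 13], [0, 5, 9, 0, 2, 0, 0], [0, 0, 0, 2, 1, 7, 2], [2, 4, 6, 8, 10, 12, 1], [5, 6, 4, 7, 2, 0, 0], [8, 12, 8, 12, 11, 13, 10], [0, 3, 9, 12,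 10, 5, 7, 0], [2, 9, 12, 8, 2, 9, 12, 8], [4, 11, 12, 10, 4, 11, 12, 10], [8, 0, 0, 0, 3, 1, 1, 1], [6, 4, 10, 5, 6, 4, 10, 5], [11, 13, 5, 7, 11, 13, 5, 7], [0, 0, 0, 3, 8, 2, 1, 6, 4, 7], [3, 9, 11, 13, 8, 12, 10, 2, 1, 1], [2, 1, 1, 5, 7, 1, 1, 6, 0, 0], [6, 4, 9, 12, 10, 13, 8, 0, 0, 3], [7, 4, 7, 4, 7, 4, 7, 4, 7, 4], [13, 10, 13, 10, 13, 10, 13, 10, 13, 10], [0, 0, 0, 0, 0, 0, 0, 0, 0, 0, 0, 0, 0, 0, 0, 0, 0, 0, 0, 0, 0, 0, 0]]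

/-- where each relator comes from -/
def wit : List (ℕ × List ℕ) := [(36, []), (92, []), (113, []), (120, []), (148, []), (162, []), (132, []), (34, []), (46, []), (104, []), (160, []), (20, []), (62, []), (83, []), (146, []), (4, []), (6, []), (9, []), (48, []), (111, []), (3, []), (33, []), (61, []), (76, []), (96, []), (117, []), (5, []), (12, []), (19, []), (40, []), (102, []), (158, []), (2, [])]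

/-- the three letters -/
def kk : List ℕ := [2, 3, 5]

/-- the letter generating the cyclic subgroup -/
def cyc : ℕ := 4

/-- a permutation of 24 points -/
def xTab : List ℕ := [4, 7, 12, 10, 0, 17, 21, 1, 16, 13, 3, 20, 2, 9, 23, 19, 8, 5, 22, 15, 11, 6, 18, 14]

/-- a permutation of 24 points -/
def yTab : List ℕ := [4, 1, 2, 17, 8, 7, 20, 23, 0, 16, 10, 9, 19, 13, 6, 15, 11, 22, 18, 21, 14, 12, 3, 5]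

/-- a permutation of 24 points -/
def yiTab : List ℕ := [8, 1, 2, 22, 0, 23, 14, 5, 4, 11, 10, 16, 21, 13, 20, 15, 9, 3, 18, 12, 6, 19, 17, 7]

/-- a word -/
def shiftWord : List ℕ := [0, 3, 0, 2, 0, 3, 0, 2, 0, 2, 0, 3, 0, 3, 0, 3, 0, 3, 0, 3, 0, 3, 0, 2, 0, 3, 0, 2, 0, 2, 0, 2, 0, 2, 0, 3, 0, 2, 0, 3, 0, 2, 0, 3, 0, 3, 0, 3]

/-- a word -/
def projInvWord : List ℕ := [3, 0, 2, 0, 3, 0, 2, 0, 3, 0, 2, 0, 2, 0, 2, 0, 2, 0, 3, 0, 2, 0, 2, 0, 2, 0, 2, 0, 3, 0, 3, 0, 2, 0, 2, 0, 2, 0, 3, 0, 2, 0, 2, 0, 3, 0, 3, 0, 2, 0, 2, 0, 3, 0, 2, 0, 2]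

/-- a word -/
def twistWord : List ℕ := [0, 2, 0, 2, 0, 2, 0, 3, 0, 3, 0, 3, 0, 2, 0, 3, 0, 3, 0, 3, 0, 3, 0, 3, 0, 3, 0, 2, 0, 2, 0, 2, 0, 2, 0, 3, 0, 2, 0, 3]

end CfsgLib.J4M24.Tab
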