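import Cfsg.Agent.J4M24.Data
import Cfsg.Agent.J4M24.E2.Upper
import Cfsg.Agent.J4M24.E3.Upper

/-!
The group presented by the seven relations of the printed two-generator presentation of M24 has
order at most three times that of M24: the subgroup on seven Schreier generators has index at most
24, three of those generate a subgroup of index at most 1771 in it, of order at most 17280.
-/

set_option autoImplicit false

namespace CfsgLib.J4M24

open CfsgLib.CosetEnum

/-- two values as letters 0, 1 (first and its inverse), 2, 3 (second and its inverse) -/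
def lets {G : Type*} [Group G] (a b : G) : ℕ → G :=
  signedVal fun q => if q = 0 then a else if q = 1 then b else 1

theorem lets_iv {G : Type*} [Group G] (a b : G) (x : ℕ) :
    lets a b (x ^^^ 1) = (lets a b x)⁻¹ := signedVal_iv _ x

/-- the relators -/
def relSet : Set (FreeGroup Bool) :=
  {r | ∃ w ∈ Tab.relWords, gword (lets (FreeGroup.of false) (FreeGroup.of true)) w = r}

/-- the presented group -/
abbrev P : Type := PresentedGroup relSet

/-- first generator -/
def px : P := PresentedGroup.of false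

/-- second generator -/
def py : P := PresentedGroup.of true

/-- the letters of the presented group -/
def gl : ℕ → P := lets px py

theorem gl_iv (x : ℕ) : gl (x ^^^ 1) = (gl x)⁻¹ := lets_iv _ _ x

theorem map_lets {G H : Type*} [Group G] [Group H] (f : G →* H) (a b : G) (c : ℕ) :
    f (lets a b c) = lets (f a) (f b) c := by
  unfold lets signedVal
  simp only [apply_ite f, map_inv, map_one]

theorem map_gword_lets {G H : Type*} [Group G] [Group H] (f : G →* H) (a b : G) (w : List ℕ) :
    f (gword (lets a b) w) = gword (lets (f a) (f b)) w := by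
  rw [gword_map]
  simp only [map_lets]

theorem gword_rel {w : List ℕ} (hw : w ∈ Tab.relWords) : gword gl w = 1 := by
  have h : PresentedGroup.mk relSet (gword (lets (FreeGroup.of false) (FreeGroup.of true)) w) = 1 :=
    PresentedGroup.one_of_mem ⟨w, hw, rfl⟩
  rwa [map_gword_lets] at h

/-- values of all Schreier letters -/
def sv : ℕ → P := sVal gl Tab.T Tab.rep

/-- values of the seven letters -/
def v7 (k : ℕ) : P := if k < 7 then sv (Tab.fin.getD k 0) else 1

/-- the fourteen signed letters -/
def hl : ℕ → P := signedVal v7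

theorem hl_iv (c : ℕ) : hl (c ^^^ 1) = (hl c)⁻¹ := signedVal_iv _ c

theorem table_ok : tableOK Tab.T = true := by decide +kernel

/-- the rewritten relators -/
def rh (j : ℕ) : List ℕ :=
  red (fun c => c ^^^ 1) (rewriteAt Tab.T (j / 7) (Tab.relWords.getD (j % 7) []))

theorem rel_data : ((List.range 168).all fun j =>
    Nat.beq (endAt Tab.T (j / 7) (Tab.relWords.getD (j % 7) [])) (j / 7) &&
      (Tab.relWords.getD (j % 7) []).all (fun x => x.blt 4) &&
      (rh j).all (fun c => (c / 2).blt 48)) = true := by decide +kernel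

theorem relWords_length : Tab.relWords.length = 7 := by decide +kernel

theorem gword_rh {j : ℕ} (hj : j < 168) : gword (signedVal sv) (rh j) = 1 := by
  have h := List.all_eq_true.1 rel_data j (List.mem_range.2 hj)
  simp only [Bool.and_eq_true, List.all_eq_true, Nat.blt, Nat.ble_eq] at h
  obtain ⟨⟨hend, hlet⟩, -⟩ := h
  have hlen := relWords_length
  have hmem : Tab.relWords.getD (j % 7) [] ∈ Tab.relWords := by
    rw [List.getD_eq_getElem _ _ (by omega)]
    exact List.getElem_mem _
  rw [rh, gword_red (signedVal sv) (fun c => c ^^^ 1) (signedVal_iv sv), sv,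
    gword_rewriteAt gl gl_iv Tab.rep table_ok _ _ (by omega) hlet, Nat.eq_of_beq_eq_true hend,
    gword_rel hmem, mul_one, mul_inv_cancel]

/-- all elimination steps are valid -/
def stepsOK : List (ℕ × ℕ) → List ℕ → Bool
  | [], known => (List.range 48).all fun q => known.contains q
  | s :: l, known =>
    s.2.blt 168 && solveOK Tab.sigma known s.1 (rh s.2) && stepsOK l (s.1 :: known)

theorem steps_ok : stepsOK Tab.steps (Tab.tree ++ Tab.fin) = true := by decide +kernel

theorem start_ok : (Tab.tree.all (fun q => (Tab.sigma.getD q []).isEmpty &&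
      (red (fun c => c ^^^ 1) (sWord Tab.T Tab.rep q)).isEmpty) &&
    (List.range 7).all (fun k => Tab.sigma.getD (Tab.fin.getD k 0) [] == [2 * k]) &&
    Nat.beq Tab.fin.length 7) = true := by decide +kernel

theorem sv_sigma {q : ℕ} (hq : q < 48) : sv q = gword hl (Tab.sigma.getD q []) := by
  have h0 := start_ok
  simp only [Bool.and_eq_true, List.all_eq_true, List.isEmpty_iff] at h0
  obtain ⟨⟨htree, hfin⟩, hlen⟩ := h0
  have key : ∀ (l : List (ℕ × ℕ)) (known : List ℕ), stepsOK l known = true →
      (∀ p ∈ known, sv p = gword hl (Tab.sigma.getD p [])) →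
      sv q = gword hl (Tab.sigma.getD q []) := by
    intro l
    induction l with
    | nil =>
      intro known h hk
      exact hk q (List.contains_iff_mem.1 (List.all_eq_true.1 h q (List.mem_range.2 hq)))
    | cons s l ih =>
      intro known h hk
      simp only [stepsOK, Bool.and_eq_true, Nat.blt, Nat.ble_eq] at h
      refine ih _ h.2 fun p hp => ?_
      rcases List.mem_cons.1 hp with rfl | hp
      · exact solveOK_sound sv hl hl_iv h.1.2 (gword_rh h.1.1) hk
      · exact hk p hp
  refine key _ _ steps_ok fun p hp => ?_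
  rcases List.mem_append.1 hp with hp | hp
  · rw [(htree p hp).1, gword_nil, sv, sVal, ← gword_red gl (fun c => c ^^^ 1) gl_iv,
      (htree p hp).2, gword_nil]
  · obtain ⟨k, hk, rfl⟩ := List.getElem_of_mem hp
    have hk7 : k < 7 := by rw [Nat.eq_of_beq_eq_true hlen] at hk; exact hk
    have hs := eq_of_beq (hfin k (List.mem_range.2 hk7))
    rw [← List.getD_eq_getElem Tab.fin 0 hk, hs, gword_cons, gword_nil, mul_one, hl, signedVal,
      if_pos (by omega), show 2 * k / 2 = k by omega, v7, if_pos hk7]

theorem wit_ok : ((List.range Tab.F.length).all fun i =>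
    (Tab.wit.getD i (0, [])).1.blt 168 &&
      conjOK (Tab.F.getD i []) (Tab.wit.getD i (0, [])).2
        (subst Tab.sigma (rh (Tab.wit.getD i (0, [])).1))) = true := by decide +kernel

theorem gword_subst_rh {j : ℕ} (hj : j < 168) : gword hl (subst Tab.sigma (rh j)) = 1 := by
  rw [gword_subst sv hl hl_iv, gword_rh hj]
  intro c hc
  have h := List.all_eq_true.1 rel_data j (List.mem_range.2 hj)
  simp only [Bool.and_eq_true, List.all_eq_true, Nat.blt, Nat.ble_eq] at h
  exact sv_sigma (h.2 c hc)

theorem gword_F : ∀ f ∈ Tab.F, gword hl f = 1 := by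
  intro f hf
  obtain ⟨i, hi, rfl⟩ := List.getElem_of_mem hf
  have h := List.all_eq_true.1 wit_ok i (List.mem_range.2 hi)
  simp only [Bool.and_eq_true, Nat.blt, Nat.ble_eq] at h
  rw [← List.getD_eq_getElem Tab.F [] hi]
  exact conjOK_sound hl hl_iv h.2 (gword_subst_rh h.1)

/-- the subgroup on seven letters -/
def Hs : Subgroup P := Subgroup.closure {a | ∃ x < 14, hl x = a}

theorem hl_mem (c : ℕ) : hl c ∈ Hs := by
  by_cases hc : c < 14
  · exact Subgroup.subset_closure ⟨c, hc, rfl⟩
  · have : ¬ c / 2 < 7 := by omega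
    rw [hl, signedVal, v7, if_neg this]
    split_ifs
    · exact one_mem _
    · rw [inv_one]; exact one_mem _

/-- the values of the three letters and their inverses -/
def g3 : ℕ → P := signedVal fun j => v7 (Tab.kk.getD j 7)

theorem g3_iv (c : ℕ) : g3 (c ^^^ 1) = (g3 c)⁻¹ := signedVal_iv _ c

/-- a letter of the subgroup on three letters, among the fourteen -/
def m3 (c : ℕ) : ℕ := 2 * Tab.kk.getD (c / 2) 7 + c % 2

theorem hl_m3 (c : ℕ) : hl (m3 c) = g3 c := by
  have h1 : m3 c % 2 = c % 2 := by unfold m3; omega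
  have h2 : m3 c / 2 = Tab.kk.getD (c / 2) 7 := by unfold m3; omega
  unfold hl g3 signedVal
  rw [h1, h2]

theorem gword_m3 (w : List ℕ) : gword hl (w.map m3) = gword g3 w := by
  simp only [gword, List.map_map]
  congr 1
  exact List.map_congr_left fun c _ => hl_m3 c

/-- the subgroup on three letters -/
def Ks : Subgroup P := Subgroup.closure {a | ∃ x < 6, g3 x = a}

theorem Ks_le : Ks ≤ Hs := by
  rw [Ks, Subgroup.closure_le]
  rintro _ ⟨x, -, rfl⟩
  rw [← hl_m3]
  exact hl_mem _

theorem gword_mem' (S : Subgroup P) (g : ℕ → P) {w : List ℕ} (h : ∀ x ∈ w, g x ∈ S) :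
    gword g w ∈ S := gword_mem S g h

theorem e2_words : (wordsFrom (fun c => c ^^^ 1) Tab.F (E2.words.take E2.cert.nr) &&
    (E2.words.drop E2.cert.nr).all (fun w => w.all fun c => (List.range 6).any fun x =>
      Nat.beq (m3 x) c) && Nat.beq E2.cert.L 14) = true := by decide +kernel

theorem e3_words : (wordsFrom (fun c => c ^^^ 1) Tab.F
      ((E3.words.take E3.cert.nr).map fun w => w.map m3) &&
    (E3.words.drop E3.cert.nr).all (fun w => w == [Tab.cyc]) && Nat.beq E3.cert.L 6 &&
    Tab.F.contains [m3 Tab.cyc, m3 Tab.cyc, m3 Tab.cyc]) = true := by decide +kernel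

theorem e2_index : Ks.relIndex Hs ≤ 1771 ∧ Ks.relIndex Hs ≠ 0 := by
  have h := e2_words
  simp only [Bool.and_eq_true] at h
  obtain ⟨⟨hr, hs⟩, hL⟩ := h
  have hrel : ∀ (k : ℕ) (w : List ℕ), E2.cert.words[k]? = some w → k < E2.cert.nr →
      gword hl w = 1 := fun k w hk hlt =>
    gword_of_wordsFrom hl (fun c => c ^^^ 1) hl_iv hr gword_F w
      (List.mem_of_getElem? (i := k) (by rw [List.getElem?_take_of_lt hlt]; exact hk))
  have hsub : ∀ (k : ℕ) (w : List ℕ), E2.cert.words[k]? = some w → gword hl w ∈ Ks := by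
    intro k w hk
    by_cases hlt : k < E2.cert.nr
    · rw [hrel k w hk hlt]; exact one_mem _
    · have hmem : w ∈ E2.words.drop E2.cert.nr := List.mem_of_getElem?
        (i := k - E2.cert.nr) (by
          rw [List.getElem?_drop, Nat.add_sub_cancel' (not_lt.1 hlt)]; exact hk)
      refine gword_mem' Ks hl fun c hc => ?_
      obtain ⟨x, hx, hxc⟩ := List.any_eq_true.1
        (List.all_eq_true.1 (List.all_eq_true.1 hs w hmem) c hc)
      rw [← Nat.eq_of_beq_eq_true hxc, hl_m3]
      exact Subgroup.subset_closure ⟨x, List.mem_range.1 hx, rfl⟩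
  have h2 := relIndex_le E2.facts E2.n_pos E2.node_zero E2.rows Ks hl hl_iv hrel hsub
  rw [Nat.eq_of_beq_eq_true hL] at h2
  exact h2

theorem e3_index : (Subgroup.zpowers (g3 Tab.cyc)).relIndex Ks ≤ 5760 ∧
    (Subgroup.zpowers (g3 Tab.cyc)).relIndex Ks ≠ 0 ∧ g3 Tab.cyc ^ 3 = 1 ∧
    g3 Tab.cyc ∈ Ks := by
  have h := e3_words
  simp only [Bool.and_eq_true] at h
  obtain ⟨⟨⟨hr, hs⟩, hL⟩, hcube⟩ := h
  have hrel : ∀ (k : ℕ) (w : List ℕ), E3.cert.words[k]? = some w → k < E3.cert.nr →
      gword g3 w = 1 := fun k w hk hlt => by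
    rw [← gword_m3]
    exact gword_of_wordsFrom hl (fun c => c ^^^ 1) hl_iv hr gword_F _
      (List.mem_map_of_mem (List.mem_of_getElem? (i := k)
        (by rw [List.getElem?_take_of_lt hlt]; exact hk)))
  have hsub : ∀ (k : ℕ) (w : List ℕ), E3.cert.words[k]? = some w →
      gword g3 w ∈ Subgroup.zpowers (g3 Tab.cyc) := by
    intro k w hk
    by_cases hlt : k < E3.cert.nr
    · rw [hrel k w hk hlt]; exact one_mem _
    · have hmem : w ∈ E3.words.drop E3.cert.nr := List.mem_of_getElem?
        (i := k - E3.cert.nr) (by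
          rw [List.getElem?_drop, Nat.add_sub_cancel' (not_lt.1 hlt)]; exact hk)
      rw [eq_of_beq (List.all_eq_true.1 hs w hmem), gword_cons, gword_nil, mul_one]
      exact Subgroup.mem_zpowers _
  have h2 := relIndex_le E3.facts E3.n_pos E3.node_zero E3.rows
    (Subgroup.zpowers (g3 Tab.cyc)) g3 g3_iv hrel hsub
  rw [Nat.eq_of_beq_eq_true hL] at h2
  refine ⟨h2.1, h2.2, ?_, Subgroup.subset_closure ⟨Tab.cyc, by decide, rfl⟩⟩
  have h3 := gword_F _ (List.contains_iff_mem.1 hcube)
  rw [gword_cons, gword_cons, gword_cons, gword_nil, mul_one, hl_m3] at h3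
  rw [pow_succ, pow_two, mul_assoc]
  exact h3

theorem index_Hs : Hs.index ≤ 24 ∧ Hs.index ≠ 0 := by
  let t : ℕ → P := fun j => gword gl (Tab.rep j)
  have hstep : ∀ (a : P) (x : ℕ), x < 4 → (∃ j < 24, a * (t j)⁻¹ ∈ Hs) →
      ∃ j < 24, a * gl x * (t j)⁻¹ ∈ Hs := by
    rintro a x hx ⟨j, hj, hmem⟩
    refine ⟨Tab.T (4 * j + x), (tableOK_spec table_ok hj hx).1, ?_⟩
    have e := gword_rewriteAt gl gl_iv Tab.rep table_ok [x] j hj
      (fun y hy => by rw [List.mem_singleton.1 hy]; exact hx)
    simp only [endAt, gword_cons, gword_nil, mul_one] at e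
    have hin : gword (signedVal (sVal gl Tab.T Tab.rep)) (rewriteAt Tab.T j [x]) ∈ Hs := by
      have hlt := (tableOK_spec table_ok hj hx).1
      refine gword_mem' Hs _ fun c hc => ?_
      have hc48 : c / 2 < 48 := by
        have hx2 : x / 2 < 2 := by omega
        simp only [rewriteAt, List.mem_singleton] at hc
        subst hc
        cases Nat.beq (x % 2) 0 <;> simp <;> omega
      have hv : sv (c / 2) ∈ Hs := by
        rw [sv_sigma hc48]
        exact gword_mem' Hs hl fun y _ => hl_mem y
      unfold signedVal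
      split_ifs
      · exact hv
      · exact inv_mem hv
    rw [e] at hin
    have := mul_mem hmem hin
    simpa [t, mul_assoc] using this
  have hall : ∀ a : P, ∃ j < 24, a * (t j)⁻¹ ∈ Hs := by
    intro a
    have ha : a ∈ Subgroup.closure (Set.range (PresentedGroup.of (rels := relSet))) := by
      rw [PresentedGroup.closure_range_of]; trivial
    induction ha using Subgroup.closure_induction_right with
    | one => exact ⟨0, by norm_num, by
        rw [show t 0 = 1 from rfl, inv_one, mul_one]; exact one_mem _⟩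
    | mul_right a g _ hg ih =>
      obtain ⟨b, rfl⟩ := hg
      cases b
      · exact hstep a 0 (by norm_num) ih
      · exact hstep a 2 (by norm_num) ih
    | mul_inv_cancel a g _ hg ih =>
      obtain ⟨b, rfl⟩ := hg
      cases b
      · exact hstep a 1 (by norm_num) ih
      · exact hstep a 3 (by norm_num) ih
  let f : Fin 24 → P ⧸ Hs := fun j => (((t j)⁻¹ : P) : P ⧸ Hs)
  have hf : Function.Surjective f := by
    intro q
    obtain ⟨g, rfl⟩ := QuotientGroup.mk_surjective q
    obtain ⟨j, hj, hmem⟩ := hall g⁻¹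
    refine ⟨⟨j, hj⟩, QuotientGroup.eq.2 ?_⟩
    have := inv_mem hmem
    simpa [f] using this
  have := Finite.of_surjective f hf
  refine ⟨(Nat.card_le_card_of_surjective f hf).trans (by simp), ?_⟩
  rw [Subgroup.index_eq_card]
  exact Nat.card_pos.ne'

theorem card_le : Nat.card P ≤ 3 * 244823040 ∧ Nat.card P ≠ 0 := by
  obtain ⟨h3, h3', hcube, hmem⟩ := e3_index
  obtain ⟨h2, h2'⟩ := e2_index
  obtain ⟨h1, h1'⟩ := index_Hs
  have hL : Nat.card (Subgroup.zpowers (g3 Tab.cyc)) ≤ 3 ∧
      Nat.card (Subgroup.zpowers (g3 Tab.cyc)) ≠ 0 := by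
    rw [Nat.card_zpowers]
    exact ⟨orderOf_le_of_pow_eq_one (by norm_num) hcube,
      (orderOf_pos_iff.2 (isOfFinOrder_iff_pow_eq_one.2 ⟨3, by norm_num, hcube⟩)).ne'⟩
  have eK := Subgroup.relIndex_mul_relIndex (⊥ : Subgroup P) (Subgroup.zpowers (g3 Tab.cyc)) Ks
    bot_le ((Subgroup.zpowers_le).2 hmem)
  have eH := Subgroup.relIndex_mul_relIndex (⊥ : Subgroup P) Ks Hs bot_le Ks_le
  rw [Subgroup.relIndex_bot_left, Subgroup.relIndex_bot_left] at eK
  rw [Subgroup.relIndex_bot_left, Subgroup.relIndex_bot_left] at eH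
  rw [← Hs.card_mul_index, ← eH, ← eK]
  refine ⟨?_, mul_ne_zero (mul_ne_zero (mul_ne_zero hL.2 h3') h2') h1'⟩
  calc Nat.card (Subgroup.zpowers (g3 Tab.cyc)) * (Subgroup.zpowers (g3 Tab.cyc)).relIndex Ks *
        Ks.relIndex Hs * Hs.index ≤ 3 * 5760 * 1771 * 24 :=
        Nat.mul_le_mul (Nat.mul_le_mul (Nat.mul_le_mul hL.1 h3) h2) h1
    _ = 3 * 244823040 := by norm_num

end CfsgLib.J4M24
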