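import Cfsg.Agent.CosetEnum.Present

/-!
Rewriting of relators for a subgroup given by a finite transversal table, and checked elimination
of letters, to feed coset enumeration certificates.
-/

set_option autoImplicit false

namespace CfsgLib.J4M24

open CfsgLib.CosetEnum

/-- prepend a letter, cancelling a formal inverse -/
def redCons (iv : ℕ → ℕ) (x : ℕ) : List ℕ → List ℕ
  | [] => [x]
  | y :: ys => bif Nat.beq y (iv x) then ys else x :: y :: ys

/-- free reduction -/
def red (iv : ℕ → ℕ) : List ℕ → List ℕ
  | [] => []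
  | x :: xs => redCons iv x (red iv xs)

theorem gword_append {G : Type*} [Group G] (g : ℕ → G) (v w : List ℕ) :
    gword g (v ++ w) = gword g v * gword g w := by simp [gword]

theorem gword_red {G : Type*} [Group G] (g : ℕ → G) (iv : ℕ → ℕ)
    (hg : ∀ x, g (iv x) = (g x)⁻¹) : ∀ w : List ℕ, gword g (red iv w) = gword g w
  | [] => rfl
  | x :: xs => by
    have key : ∀ l : List ℕ, gword g (redCons iv x l) = g x * gword g l := by
      intro l
      cases l with
      | nil => exact gword_cons g x []
      | cons y ys =>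
        show gword g (bif Nat.beq y (iv x) then ys else x :: y :: ys) = _
        cases h : Nat.beq y (iv x) with
        | false => exact gword_cons g x (y :: ys)
        | true =>
          show gword g ys = _
          rw [gword_cons, Nat.eq_of_beq_eq_true h, hg, mul_inv_cancel_left]
    show gword g (redCons iv x (red iv xs)) = _
    rw [key, gword_red g iv hg xs, gword_cons]

/-- the formal inverse of a word -/
def wInv (w : List ℕ) : List ℕ := w.reverse.map (fun c => c ^^^ 1)

/-- The positive letter `2 * (2 * i + e)` stands for the Schreier generator of point `i` and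
generator `e`; this is the word it means. -/
def sWord (T : ℕ → ℕ) (rep : ℕ → List ℕ) (q : ℕ) : List ℕ :=
  rep (q / 2) ++ [2 * (q % 2)] ++ wInv (rep (T (4 * (q / 2) + 2 * (q % 2))))

/-- rewriting of a word starting at point `i` -/
def rewriteAt (T : ℕ → ℕ) : ℕ → List ℕ → List ℕ
  | _, [] => []
  | i, x :: w => (bif Nat.beq (x % 2) 0 then 2 * (2 * i + x / 2)
      else 2 * (2 * T (4 * i + x) + x / 2) + 1) :: rewriteAt T (T (4 * i + x)) w

/-- the end point of a word -/
def endAt (T : ℕ → ℕ) : ℕ → List ℕ → ℕ
  | i, [] => i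
  | i, x :: w => endAt T (T (4 * i + x)) w

/-- apply a substitution to a word -/
def subst (σ : List (List ℕ)) : List ℕ → List ℕ
  | [] => []
  | c :: w => (bif Nat.beq (c % 2) 0 then σ.getD (c / 2) [] else wInv (σ.getD (c / 2) [])) ++
      subst σ w

/-- the value of a signed letter over positive values -/
def signedVal {G : Type*} [Group G] (v : ℕ → G) (c : ℕ) : G :=
  if c % 2 = 0 then v (c / 2) else (v (c / 2))⁻¹

theorem signedVal_iv {G : Type*} [Group G] (v : ℕ → G) (c : ℕ) :
    signedVal v (c ^^^ 1) = (signedVal v c)⁻¹ := by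
  rcases Nat.even_or_odd' c with ⟨k, rfl | rfl⟩
  · have h : 2 * k ^^^ 1 = 2 * k + 1 := by
      rw [Nat.xor_one_of_even (by simp)]
    have h1 : (2 * k + 1) % 2 = 1 := by omega
    have h2 : (2 * k + 1) / 2 = k := by omega
    simp [signedVal, h, h1, h2]
  · have h : (2 * k + 1) ^^^ 1 = 2 * k := by
      rw [Nat.xor_one_of_odd (by simp)]; omega
    have h1 : (2 * k + 1) % 2 = 1 := by omega
    have h2 : (2 * k + 1) / 2 = k := by omega
    simp [signedVal, h, h1, h2]

variable {G : Type*} [Group G]

theorem gword_wInv (g : ℕ → G) (hg : ∀ x, g (x ^^^ 1) = (g x)⁻¹) (w : List ℕ) :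
    gword g (wInv w) = (gword g w)⁻¹ :=
  gword_inverse g (fun c => c ^^^ 1) hg w

/-- the value of a Schreier letter -/
def sVal (g : ℕ → G) (T : ℕ → ℕ) (rep : ℕ → List ℕ) (q : ℕ) : G := gword g (sWord T rep q)

theorem sVal_eq (g : ℕ → G) (hg : ∀ x, g (x ^^^ 1) = (g x)⁻¹) (T : ℕ → ℕ) (rep : ℕ → List ℕ)
    (i e : ℕ) (he : e < 2) : sVal g T rep (2 * i + e) =
      gword g (rep i) * g (2 * e) * (gword g (rep (T (4 * i + 2 * e))))⁻¹ := by
  have h1 : (2 * i + e) / 2 = i := by omega
  have h2 : (2 * i + e) % 2 = e := by omega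
  rw [sVal, sWord, h1, h2, gword_append, gword_append, gword_wInv g hg, gword_cons, gword_nil,
    mul_one]

/-- the table is consistent with inverses, below 24 points -/
def tableOK (T : ℕ → ℕ) : Bool :=
  (List.range 96).all fun q => (T q).blt 24 &&
    Nat.beq (T (4 * T q + ((q % 4) ^^^ 1))) (q / 4)

theorem tableOK_spec {T : ℕ → ℕ} (h : tableOK T = true) {i x : ℕ} (hi : i < 24) (hx : x < 4) :
    T (4 * i + x) < 24 ∧ T (4 * T (4 * i + x) + (x ^^^ 1)) = i := by
  have h' := List.all_eq_true.1 h (4 * i + x) (List.mem_range.2 (by omega))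
  simp only [Bool.and_eq_true, Nat.blt, Nat.ble_eq] at h'
  have e1 : (4 * i + x) % 4 = x := by omega
  have e2 : (4 * i + x) / 4 = i := by omega
  rw [e1, e2] at h'
  exact ⟨h'.1, Nat.eq_of_beq_eq_true h'.2⟩

theorem gword_rewriteAt (g : ℕ → G) (hg : ∀ x, g (x ^^^ 1) = (g x)⁻¹) {T : ℕ → ℕ}
    (rep : ℕ → List ℕ) (hT : tableOK T = true) : ∀ (w : List ℕ) (i : ℕ), i < 24 →
      (∀ x ∈ w, x < 4) → gword (signedVal (sVal g T rep)) (rewriteAt T i w) =
        gword g (rep i) * gword g w * (gword g (rep (endAt T i w)))⁻¹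
  | [], i, _, _ => by simp [rewriteAt, endAt, gword_nil]
  | x :: w, i, hi, hw => by
    have hx : x < 4 := hw x List.mem_cons_self
    obtain ⟨hlt, hback⟩ := tableOK_spec hT hi hx
    rw [rewriteAt, gword_cons, endAt, gword_cons,
      gword_rewriteAt g hg rep hT w _ hlt (fun y hy => hw y (List.mem_cons_of_mem _ hy))]
    have hkey : signedVal (sVal g T rep) (bif Nat.beq (x % 2) 0 then 2 * (2 * i + x / 2)
        else 2 * (2 * T (4 * i + x) + x / 2) + 1) =
          gword g (rep i) * g x * (gword g (rep (T (4 * i + x))))⁻¹ := by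
      have h2 : x / 2 < 2 := by omega
      rcases Nat.mod_two_eq_zero_or_one x with hp | hp
      · have hxx : 2 * (x / 2) = x := by omega
        rw [hp]
        show signedVal (sVal g T rep) (2 * (2 * i + x / 2)) = _
        have a1 : 2 * (2 * i + x / 2) % 2 = 0 := by omega
        have a2 : 2 * (2 * i + x / 2) / 2 = 2 * i + x / 2 := by omega
        rw [signedVal, if_pos a1, a2, sVal_eq g hg T rep i _ h2, hxx]
      · rw [hp]
        show signedVal (sVal g T rep) (2 * (2 * T (4 * i + x) + x / 2) + 1) = _
        have a1 : ¬ (2 * (2 * T (4 * i + x) + x / 2) + 1) % 2 = 0 := by omega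
        have a2 : (2 * (2 * T (4 * i + x) + x / 2) + 1) / 2 = 2 * T (4 * i + x) + x / 2 := by
          omega
        have hxx : x ^^^ 1 = 2 * (x / 2) := by
          rw [Nat.xor_one_of_odd (Nat.odd_iff.2 hp)]; omega
        rw [signedVal, if_neg a1, a2, sVal_eq g hg T rep _ _ h2, ← hxx, hback, hg]
        simp [mul_assoc]
    rw [hkey]
    group

theorem gword_subst (v : ℕ → G) (h : ℕ → G) (hh : ∀ x, h (x ^^^ 1) = (h x)⁻¹)
    (σ : List (List ℕ)) : ∀ w : List ℕ, (∀ c ∈ w, v (c / 2) = gword h (σ.getD (c / 2) [])) →
      gword h (subst σ w) = gword (signedVal v) w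
  | [], _ => rfl
  | c :: w, hw => by
    rw [subst, gword_append, gword_cons, gword_subst v h hh σ w
      (fun y hy => hw y (List.mem_cons_of_mem _ hy))]
    congr 1
    rcases Nat.mod_two_eq_zero_or_one c with hp | hp
    · rw [hp, signedVal, if_pos hp, hw c List.mem_cons_self]; rfl
    · rw [hp, signedVal, if_neg (by omega), hw c List.mem_cons_self]
      exact gword_wInv h hh _

/-- The letter `q` is forced by the word `r`: it occurs in it exactly once, the others are known,
and the value of `q` makes the substituted word trivial. -/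
def solveOK (σ : List (List ℕ)) (known : List ℕ) (q : ℕ) (r : List ℕ) : Bool :=
  Nat.beq ((r.filter fun c => Nat.beq (c / 2) q).length) 1 &&
    (r.all fun c => Nat.beq (c / 2) q || known.contains (c / 2)) &&
    (red (fun c => c ^^^ 1) (subst σ r)).isEmpty

theorem solveOK_sound (v : ℕ → G) (h : ℕ → G) (hh : ∀ x, h (x ^^^ 1) = (h x)⁻¹)
    {σ : List (List ℕ)} {known : List ℕ} {q : ℕ} {r : List ℕ}
    (hok : solveOK σ known q r = true) (hr : gword (signedVal v) r = 1)
    (hk : ∀ p ∈ known, v p = gword h (σ.getD p [])) : v q = gword h (σ.getD q []) := by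
  simp only [solveOK, Bool.and_eq_true] at hok
  obtain ⟨⟨hcnt, hall⟩, hempty⟩ := hok
  have hcnt' := Nat.eq_of_beq_eq_true hcnt
  obtain ⟨c, hc⟩ : ∃ c, c ∈ r.filter fun c => Nat.beq (c / 2) q := by
    cases hf : r.filter fun c => Nat.beq (c / 2) q with
    | nil => rw [hf] at hcnt'; simp at hcnt'
    | cons c l => exact ⟨c, List.mem_cons_self⟩
  obtain ⟨hcr, hcq⟩ := List.mem_filter.1 hc
  have hcq' : c / 2 = q := Nat.eq_of_beq_eq_true hcq
  obtain ⟨a, b, rfl⟩ := List.mem_iff_append.1 hcr
  have hrest : ∀ d ∈ a ++ b, v (d / 2) = gword h (σ.getD (d / 2) []) := by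
    intro d hd
    have hd' : d ∈ a ++ c :: b := by
      rcases List.mem_append.1 hd with h1 | h1
      · exact List.mem_append_left _ h1
      · exact List.mem_append_right _ (List.mem_cons_of_mem _ h1)
    rcases Bool.or_eq_true_iff.1 (List.all_eq_true.1 hall d hd') with h1 | h1
    · exfalso
      rw [List.filter_append, List.filter_cons, hcq] at hcnt'
      simp only [if_true, List.length_append, List.length_cons] at hcnt'
      rcases List.mem_append.1 hd with h2 | h2
      · have hm : d ∈ a.filter fun c => Nat.beq (c / 2) q := List.mem_filter.2 ⟨h2, h1⟩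
        have := List.length_pos_of_mem hm
        omega
      · have hm : d ∈ b.filter fun c => Nat.beq (c / 2) q := List.mem_filter.2 ⟨h2, h1⟩
        have := List.length_pos_of_mem hm
        omega
    · exact hk _ (List.contains_iff_mem.1 h1)
  have he : gword h (subst σ (a ++ c :: b)) = 1 := by
    rw [← gword_red h (fun c => c ^^^ 1) hh, List.isEmpty_iff.1 hempty, gword_nil]
  have hsplit : ∀ l m : List ℕ, subst σ (l ++ m) = subst σ l ++ subst σ m := by
    intro l m
    induction l with
    | nil => rfl
    | cons y l ih => simp only [List.cons_append, subst, ih, List.append_assoc]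
  have ha := gword_subst v h hh σ a fun d hd => hrest d (List.mem_append_left _ hd)
  have hb := gword_subst v h hh σ b fun d hd => hrest d (List.mem_append_right _ hd)
  rw [hsplit, gword_append, ha, subst, gword_append, hb] at he
  rw [gword_append, gword_cons] at hr
  have heq : gword h (bif Nat.beq (c % 2) 0 then σ.getD (c / 2) [] else
      wInv (σ.getD (c / 2) [])) = signedVal v c := by
    have := he.trans hr.symm
    exact mul_right_cancel (mul_left_cancel this)
  rcases Nat.mod_two_eq_zero_or_one c with hp | hp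
  · rw [hp, signedVal, if_pos hp, hcq'] at heq; exact heq.symm
  · rw [hp, signedVal, if_neg (by omega), hcq'] at heq
    change gword h (wInv _) = _ at heq
    rw [gword_wInv h hh] at heq
    exact (inv_injective heq).symm

/-- `f` is, up to conjugation by `k` and free reduction, the word `w`. -/
def conjOK (f k w : List ℕ) : Bool :=
  red (fun c => c ^^^ 1) w == red (fun c => c ^^^ 1) (k ++ f ++ wInv k)

theorem conjOK_sound (h : ℕ → G) (hh : ∀ x, h (x ^^^ 1) = (h x)⁻¹) {f k w : List ℕ}
    (hok : conjOK f k w = true) (hw : gword h w = 1) : gword h f = 1 := by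
  have e := eq_of_beq hok
  have := congrArg (gword h) e
  rw [gword_red h (fun c => c ^^^ 1) hh, gword_red h (fun c => c ^^^ 1) hh, hw, gword_append,
    gword_append, gword_wInv h hh] at this
  calc gword h f = (gword h k)⁻¹ * (gword h k * gword h f * (gword h k)⁻¹) * gword h k := by group
    _ = 1 := by rw [← this]; group

end CfsgLib.J4M24
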